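import Mathlib

/-!
The norm form of the cyclotomic polynomial of a prime `q ≡ 3 (mod 4)` over the field of `√(-q)`.
-/

set_option autoImplicit false

namespace Cfsg.Agent.SolvStruct.Amitsur

open Polynomial

theorem exists_norm_form (q : ℕ) [Fact q.Prime] (hq : q % 4 = 3) :
    ∃ P Q : ℚ[X], (X - 1) * (P ^ 2 + C (q : ℚ) * Q ^ 2) = X ^ q - 1 := by
  classical
  haveI : NeZero q := ⟨(Fact.out : q.Prime).ne_zero⟩
  let K := CyclotomicField q ℚ
  haveI : IsCyclotomicExtension {q} ℚ K := CyclotomicField.isCyclotomicExtension q ℚ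
  haveI : CharZero K := charZero_of_injective_algebraMap (algebraMap ℚ K).injective
  have hη := IsCyclotomicExtension.zeta_spec q ℚ K
  set η := IsCyclotomicExtension.zeta q ℚ K
  haveI : FiniteDimensional ℚ K := IsCyclotomicExtension.finiteDimensional {q} ℚ K
  haveI : IsGalois ℚ K := IsCyclotomicExtension.isGalois {q} ℚ K
  let ψ : AddChar (ZMod q) K := AddChar.zmodChar q hη.pow_eq_one
  have hψ : ψ.IsPrimitive := AddChar.zmodChar_primitive_of_primitive_root q hη
  have hψn : ∀ n : ℕ, ψ (n : ZMod q) = η ^ n := fun n => AddChar.zmodChar_apply' _ n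
  have hq2 : ringChar (ZMod q) ≠ 2 := by rw [ZMod.ringChar_zmod_n]; omega
  let χ : MulChar (ZMod q) K := (quadraticChar (ZMod q)).ringHomComp (Int.castRingHom K)
  have hχap : ∀ a, χ a = ((quadraticChar (ZMod q) a : ℤ) : K) := fun a => rfl
  have hχ2 : χ.IsQuadratic := (quadraticChar_isQuadratic (ZMod q)).comp _
  have hχ1 : χ ≠ 1 :=
    (MulChar.ringHomComp_ne_one_iff (Int.cast_injective (α := K))).mpr
      (quadraticChar_ne_one hq2)
  set g := gaussSum χ ψ with hg
  have hg2 : g ^ 2 = -(q : K) := by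
    rw [hg, gaussSum_sq hχ1 hχ2 hψ, ZMod.card, hχap, quadraticChar_neg_one hq2, ZMod.card,
      ZMod.χ₄_nat_three_mod_four hq]
    simp [neg_one_mul]
  have hg0 : g ≠ 0 := by
    intro h
    rw [h, sq, mul_zero, eq_comm, neg_eq_zero, Nat.cast_eq_zero] at hg2
    exact NeZero.ne q hg2
  let F : ℤ → K[X] := fun e =>
    ∏ a ∈ Finset.univ.filter (fun a : ZMod q => quadraticChar (ZMod q) a = e), (X - C (ψ a))
  have hprod : (X - 1) * (F 1 * F (-1)) = X ^ q - 1 := by
    have h1 := X_pow_sub_C_eq_prod hη (NeZero.pos q) (one_pow q)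
    simp only [mul_one, map_one] at h1
    rw [h1]
    have h2 : ∏ i ∈ Finset.range q, (X - C (η ^ i)) = ∏ a : ZMod q, (X - C (ψ a)) := by
      refine Finset.prod_bij' (fun i _ => (i : ZMod q)) (fun a _ => a.val) ?_ ?_ ?_ ?_ ?_
      · simp
      · intro a _; simpa using ZMod.val_lt a
      · intro i hi; exact ZMod.val_cast_of_lt (Finset.mem_range.mp hi)
      · intro a _; exact ZMod.natCast_zmod_val a
      · intro i _; rw [hψn]
    rw [h2, Fintype.prod_eq_mul_prod_compl (0 : ZMod q)]
    congr 1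
    · simp
    · rw [← Finset.prod_union]
      · refine Finset.prod_congr ?_ fun _ _ => rfl
        ext a
        simp only [Finset.mem_union, Finset.mem_filter, Finset.mem_univ, true_and,
          Finset.mem_compl, Finset.mem_singleton]
        refine ⟨?_, fun h => quadraticChar_dichotomy h⟩
        rintro (h | h) rfl <;> simp at h
      · rw [Finset.disjoint_filter]
        intro a _ h h'
        omega
  have hfix : ∀ σ : K ≃ₐ[ℚ] K,
      (σ g = g ∧ (F 1).map (σ : K →+* K) = F 1 ∧ (F (-1)).map (σ : K →+* K) = F (-1)) ∨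
      (σ g = -g ∧ (F 1).map (σ : K →+* K) = F (-1) ∧ (F (-1)).map (σ : K →+* K) = F 1) := by
    intro σ
    obtain ⟨i, hi, hi'⟩ := hη.eq_pow_of_pow_eq_one
      (show σ η ^ q = 1 by rw [← map_pow, hη.pow_eq_one, map_one])
    set c : ZMod q := (i : ZMod q) with hc
    have hc0 : c ≠ 0 := by
      intro h
      rw [hc, ZMod.natCast_eq_zero_iff] at h
      obtain rfl := Nat.eq_zero_of_dvd_of_lt h hi
      rw [pow_zero] at hi'
      exact hη.ne_one (Fact.out : q.Prime).one_lt (σ.injective (by rw [map_one, hi']))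
    have hσ : ∀ a : ZMod q, σ (ψ a) = ψ (c * a) := by
      intro a
      conv_rhs => rw [← ZMod.natCast_zmod_val a, hc, ← Nat.cast_mul, hψn, pow_mul, hi']
      conv_lhs => rw [← ZMod.natCast_zmod_val a, hψn, map_pow]
    have hσχ : ∀ a, σ (χ a) = χ a := fun a => by rw [hχap, map_intCast]
    have hσg : σ g = gaussSum χ (ψ.mulShift c) := by
      simp only [hg, gaussSum, map_sum, map_mul, hσχ, hσ, AddChar.mulShift_apply]
    have hms := gaussSum_mulShift χ ψ (Units.mk0 c hc0)
    rw [Units.val_mk0, ← hσg] at hms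
    have hmap : ∀ e : ℤ, (F e).map (σ : K →+* K) = F (quadraticChar (ZMod q) c * e) := by
      intro e
      simp only [F, Polynomial.map_prod, Polynomial.map_sub, map_X, map_C, AlgEquiv.coe_ringHom_commutes,
        RingHom.coe_coe, hσ]
      refine Finset.prod_equiv (Equiv.mulLeft₀ c hc0) ?_ ?_
      · intro a
        simp only [Finset.mem_filter, Finset.mem_univ, true_and, Equiv.mulLeft₀_apply, map_mul]
        rcases quadraticChar_dichotomy hc0 with h | h <;> rw [h] <;> omega
      · simp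
    rcases quadraticChar_dichotomy hc0 with h | h
    · refine Or.inl ⟨?_, by rw [hmap, h, one_mul], by rw [hmap, h, one_mul]⟩
      rwa [hχap, h, Int.cast_one, one_mul] at hms
    · refine Or.inr ⟨?_, by rw [hmap, h, mul_one], by rw [hmap, h, neg_one_mul, neg_neg]⟩
      rw [hχap, h, Int.cast_neg, Int.cast_one, neg_one_mul] at hms
      exact neg_eq_iff_eq_neg.mp hms
  let P' : K[X] := C (1 / 2) * (F 1 + F (-1))
  let Q' : K[X] := C (1 / (2 * g)) * (F 1 - F (-1))
  have hdesc : ∀ R : K[X], (∀ σ : K ≃ₐ[ℚ] K, R.map (σ : K →+* K) = R) →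
      ∃ S : ℚ[X], S.map (algebraMap ℚ K) = R := by
    intro R hR
    rw [← mem_lifts, lifts_iff_coeff_lifts]
    intro n
    rw [← IntermediateField.mem_bot, IsGalois.mem_bot_iff_fixed]
    intro σ
    conv_rhs => rw [← hR σ, coeff_map]
    rfl
  obtain ⟨P, hP⟩ := hdesc P' (fun σ => by
    rcases hfix σ with ⟨_, h1, h2⟩ | ⟨_, h1, h2⟩ <;>
      simp [P', Polynomial.map_mul, Polynomial.map_add, h1, h2, add_comm, map_ofNat])
  obtain ⟨Q, hQ⟩ := hdesc Q' (fun σ => by
    have e1 : (σ : K →+* K) (1 / (2 * g)) = 1 / (2 * σ g) := by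
      rw [map_div₀, map_one, map_mul, map_ofNat]; rfl
    simp only [Q', Polynomial.map_mul, Polynomial.map_sub, map_C, e1]
    rcases hfix σ with ⟨hg', h1, h2⟩ | ⟨hg', h1, h2⟩
    · rw [h1, h2, hg']
    · rw [h1, h2, hg', mul_neg, div_neg, map_neg]
      ring)
  refine ⟨P, Q, Polynomial.map_injective (algebraMap ℚ K) (algebraMap ℚ K).injective ?_⟩
  simp only [Polynomial.map_mul, Polynomial.map_sub, Polynomial.map_add, Polynomial.map_pow,
    map_X, Polynomial.map_one, map_C, map_natCast, Polynomial.map_natCast, hP, hQ]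
  rw [← hprod]
  congr 1
  simp only [P', Q', mul_pow, ← map_pow, ← mul_assoc, ← map_mul]
  have h1 : ((1 : K) / 2) ^ 2 = 1 / 4 := by norm_num
  have h2 : (q : K) * (1 / (2 * g)) ^ 2 = -(1 / 4) := by
    rw [div_pow, mul_pow, hg2, one_pow]
    have hqK : (q : K) ≠ 0 := Nat.cast_ne_zero.mpr (NeZero.ne q)
    rw [mul_one_div, mul_neg, div_neg, div_mul_cancel_right₀ hqK]
    norm_num
  rw [← map_natCast (C : K →+* K[X]), ← map_mul, h1, h2, map_neg]
  have h4 : C ((1 : K) / 4) * 4 = 1 := by
    rw [show (4 : K[X]) = C 4 from (map_ofNat C 4).symm, ← map_mul]; norm_num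
  linear_combination (F 1 * F (-1)) * h4

end Cfsg.Agent.SolvStruct.Amitsur
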