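import Mathlib
import Cfsg.Agent.SolvStruct.Amitsur.Cyclotomic

/-!
No root of unity of order prime to ten commutes with a quaternion pair over `ℚ(√5)` inside a
division ring: an explicit zero divisor would arise.
-/

set_option autoImplicit false

namespace Cfsg.Agent.SolvStruct.Amitsur

theorem sq_ne_twelve : ∀ b : ZMod 5, b ^ 2 ≠ 3 * 4 := by decide

theorem legendre_five_three [Fact (Nat.Prime 5)] : legendreSym 5 3 = -1 := by
  rw [legendreSym.eq_neg_one_iff]
  rintro ⟨b, hb⟩
  exact absurd ⟨b, hb⟩ (show ¬ ∃ b : ZMod 5, ((3 : ℤ) : ZMod 5) = b * b by decide +revert)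

theorem not_sum_sq_mod_five (q x y : ℤ) (hq : (q : ZMod 5) = 3) (h : x ^ 2 + 5 * y ^ 2 = q) :
    False := by
  have h' := congrArg (Int.cast : ℤ → ZMod 5) h
  have h5 : (5 : ZMod 5) = 0 := rfl
  simp [hq, h5] at h'
  revert h'
  generalize (x : ZMod 5) = a
  revert a
  decide

theorem exists_two_mul_eq (q : ℕ) (hq : q.Prime) (h20 : q % 20 = 3) :
    ∃ X Y : ℤ, 2 * (q : ℤ) = X ^ 2 + 5 * Y ^ 2 := by
  haveI := Fact.mk hq
  haveI : NeZero q := ⟨hq.ne_zero⟩
  haveI : Fact (Nat.Prime 5) := ⟨by norm_num⟩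
  have hq2 : q ≠ 2 := by omega
  have h5q : ((5 : ℤ) : ZMod q) ≠ 0 := by
    rw [Ne, ZMod.intCast_zmod_eq_zero_iff_dvd]
    intro h
    have := Nat.le_of_dvd (by norm_num) (Int.natCast_dvd_natCast.mp (show (q : ℤ) ∣ ((5 : ℕ) : ℤ) from h))
    have := hq.two_le
    interval_cases q <;> omega
  have hsq : IsSquare ((-5 : ℤ) : ZMod q) := by
    refine (legendreSym.eq_one_iff q (by rw [Int.cast_neg, neg_ne_zero]; exact h5q)).mp ?_
    have h1 : legendreSym q (-1) = -1 := by
      rw [legendreSym.at_neg_one hq2, ZMod.χ₄_nat_three_mod_four (by omega)]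
    have h2 : legendreSym q ((5 : ℕ) : ℤ) = -1 := by
      rw [legendreSym.quadratic_reciprocity_one_mod_four (p := 5) (by norm_num) hq2,
        legendreSym.mod, show ((q : ℤ) % ((5 : ℕ) : ℤ)) = 3 by omega]
      exact legendre_five_three
    rw [show (-5 : ℤ) = -1 * ((5 : ℕ) : ℤ) by norm_num, legendreSym.mul, h1, h2]
    norm_num
  obtain ⟨a, ha⟩ := hsq
  set m := Nat.sqrt q
  have hm1 : m * m ≤ q := Nat.sqrt_le q
  have hm2 : m * m ≠ q := fun h => by
    have h1 : m ≠ 1 := fun h1 => by rw [h1] at h; exact hq.ne_one h.symm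
    exact Nat.not_prime_mul h1 h1 (h.symm ▸ hq)
  have hm3 : q < (m + 1) * (m + 1) := Nat.lt_succ_sqrt q
  obtain ⟨⟨u₁, v₁⟩, ⟨u₂, v₂⟩, hne, heq⟩ := Fintype.exists_ne_map_eq_of_card_lt
    (fun uv : Fin (m + 1) × Fin (m + 1) => ((uv.1 : ℕ) : ZMod q) - a * ((uv.2 : ℕ) : ZMod q))
    (by simpa using hm3)
  set x : ℤ := (u₁ : ℤ) - u₂ with hx
  set y : ℤ := (v₁ : ℤ) - v₂ with hy
  have hxy : (q : ℤ) ∣ x ^ 2 + 5 * y ^ 2 := by
    rw [← ZMod.intCast_zmod_eq_zero_iff_dvd]
    simp only at heq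
    have hxa : (x : ZMod q) = a * (y : ZMod q) := by
      rw [hx, hy]; push_cast; linear_combination heq
    push_cast at ha ⊢
    linear_combination ((x : ZMod q) + a * y) * hxa - (y : ZMod q) ^ 2 * ha
  have hpos : 0 < x ^ 2 + 5 * y ^ 2 := by
    by_contra h
    have hx0 : x = 0 := by nlinarith [sq_nonneg x, sq_nonneg y]
    have hy0 : y = 0 := by nlinarith [sq_nonneg x, sq_nonneg y]
    apply hne
    simp only [Prod.mk.injEq, Fin.ext_iff]
    omega
  have hb : ∀ u v : Fin (m + 1), ((u : ℤ) - v) ^ 2 ≤ (m : ℤ) * m := by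
    intro u v
    have hu := u.isLt
    have hv := v.isLt
    rw [sq]
    rcases le_total (0 : ℤ) ((u : ℤ) - v) with h | h
    · exact mul_le_mul (by omega) (by omega) h (by omega)
    · rw [← neg_mul_neg]
      exact mul_le_mul (by omega) (by omega) (by omega) (by omega)
  have hlt : x ^ 2 + 5 * y ^ 2 < 6 * q := by
    have h1 := hb u₁ u₂
    have h2 := hb v₁ v₂
    rw [← hx] at h1
    rw [← hy] at h2
    have h3 : (m : ℤ) * m < q := by exact_mod_cast lt_of_le_of_ne hm1 hm2
    linarith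
  obtain ⟨k, hk⟩ := hxy
  have hqpos : (0 : ℤ) < q := by exact_mod_cast hq.pos
  have hk0 : 0 < k := by nlinarith
  have hk6 : k < 6 := by nlinarith
  have hq5 : ((q : ℤ) : ZMod 5) = 3 := by
    rw [Int.cast_natCast, ← ZMod.natCast_mod q 5, show q % 5 = 3 by omega]; rfl
  interval_cases k
  · exact (not_sum_sq_mod_five q x y hq5 (by rw [hk, mul_one])).elim
  · exact ⟨x, y, by rw [hk, mul_comm]⟩
  · have h3 : x % 3 = y % 3 ∨ x % 3 = (-y) % 3 := by
      have h' := congrArg (Int.cast : ℤ → ZMod 3) hk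
      have h30 : (3 : ZMod 3) = 0 := rfl
      simp [h30] at h'
      have : ∀ a b : ZMod 3, a ^ 2 + 5 * b ^ 2 = 0 → a = b ∨ a = -b := by decide
      rcases this _ _ h' with h | h
      · exact Or.inl ((ZMod.intCast_eq_intCast_iff' x y 3).mp h)
      · exact Or.inr ((ZMod.intCast_eq_intCast_iff' x (-y) 3).mp (by push_cast; exact h))
    rcases h3 with h3 | h3
    · obtain ⟨X, hX⟩ : (3 : ℤ) ∣ x + 5 * y := by omega
      obtain ⟨Y, hY⟩ : (3 : ℤ) ∣ x - y := by omega
      refine ⟨X, Y, ?_⟩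
      nlinarith
    · obtain ⟨X, hX⟩ : (3 : ℤ) ∣ x - 5 * y := by omega
      obtain ⟨Y, hY⟩ : (3 : ℤ) ∣ x + y := by omega
      refine ⟨X, Y, ?_⟩
      nlinarith
  · exfalso
    have h' := congrArg (Int.cast : ℤ → ZMod 5) hk
    have h5 : (5 : ZMod 5) = 0 := rfl
    rw [Int.cast_natCast] at hq5
    simp [hq5, h5] at h'
    exact sq_ne_twelve _ h'
  · exfalso
    obtain ⟨x', hx'⟩ : (5 : ℤ) ∣ x := by
      refine Prime.dvd_of_dvd_pow (by norm_num : Prime (5 : ℤ)) (n := 2) ⟨q - y ^ 2, ?_⟩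
      linarith
    exact not_sum_sq_mod_five q y x' hq5 (by nlinarith)

theorem exists_good_prime (r : ℕ) (hr : r.Prime) (h10 : r.Coprime 10) :
    ∃ q : ℕ, q.Prime ∧ q % 20 = 3 ∧ r ∣ q + 1 ∧
      ∃ X Y : ℤ, 2 * (q : ℤ) = X ^ 2 + 5 * Y ^ 2 := by
  have h20 : Nat.Coprime 20 r := by
    have h2 : Nat.Coprime r 2 := h10.coprime_dvd_right (by norm_num)
    have := (h10.mul_right h2).symm
    simpa using this
  obtain ⟨a, ha1, ha2⟩ := Nat.chineseRemainder h20 3 (r - 1)
  have hr0 : 0 < r := hr.pos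
  have hc : a.Coprime (20 * r) := by
    refine Nat.Coprime.mul_right ?_ ?_
    · rw [Nat.Coprime, Nat.ModEq.gcd_eq ha1]
      rfl
    · rw [Nat.Coprime, Nat.ModEq.gcd_eq ha2, Nat.gcd_comm]
      exact (Nat.coprime_self_sub_right hr.one_le).mpr (Nat.coprime_one_right r)
  obtain ⟨q, -, hq, hqa⟩ := Nat.forall_exists_prime_gt_and_modEq 1 (by positivity) hc
  have h1 : q % 20 = 3 := (hqa.of_mul_right r).trans ha1
  refine ⟨q, hq, h1, ?_, exists_two_mul_eq q hq h1⟩
  have h2 : q ≡ r - 1 [MOD r] := (hqa.of_mul_left 20).trans ha2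
  have h3 := h2.add_right 1
  rw [Nat.sub_add_cancel hr.one_le] at h3
  exact Nat.modEq_zero_iff_dvd.mp (h3.trans (Nat.modEq_zero_iff_dvd.mpr dvd_rfl))

variable {D : Type*} [DivisionRing D] [CharZero D]

theorem commute_aeval {x z : D} (h : Commute x z) (P : Polynomial ℚ) :
    Commute x (Polynomial.aeval z P) := by
  induction P using Polynomial.induction_on' with
  | add p p' hp hp' => rw [map_add]; exact hp.add_right hp'
  | monomial n c =>
    rw [Polynomial.aeval_monomial]
    exact (show Commute x (algebraMap ℚ D c) from (Algebra.commutes c x).symm).mul_right (h.pow_right n)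

theorem no_central_prime {i j s z : D} (hi : i * i = -1) (hj : j * j = -1)
    (hji : j * i = -(i * j)) (hs : s * s = 5) (hsi : Commute s i) (hsj : Commute s j)
    (hsz : Commute s z) (hzi : Commute z i) (hzj : Commute z j) (r : ℕ) (hr : r.Prime)
    (h10 : r.Coprime 10) (hzr : z ^ r = 1) (hz1 : z ≠ 1) : False := by
  obtain ⟨q, hq, h20, hrq, X, Y, hXY⟩ := exists_good_prime r hr h10
  haveI := Fact.mk hq
  obtain ⟨P, Q, hPQ⟩ := exists_norm_form q (by omega)
  set α : D := ((X : D) + s * Y) * (2 : D)⁻¹ with hα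
  set β : D := ((X : D) - s * Y) * (2 : D)⁻¹ with hβ
  have h2inv : ∀ w : D, Commute w (2 : D)⁻¹ := fun w => (Commute.ofNat_right w 2).inv_right₀
  have hcom : ∀ w : D, Commute s w → Commute α w ∧ Commute β w := fun w hw => by
    have hsY : Commute (s * (Y : D)) w := hw.mul_left (Int.cast_commute Y w)
    exact ⟨((Int.cast_commute X w).add_left hsY).mul_left (h2inv w).symm,
      ((Int.cast_commute X w).sub_left hsY).mul_left (h2inv w).symm⟩
  obtain ⟨hαi, hβi⟩ := hcom i hsi
  obtain ⟨hαj, hβj⟩ := hcom j hsj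
  obtain ⟨hαz, hβz⟩ := hcom z hsz
  obtain ⟨hαs, hβs⟩ := hcom s (Commute.refl s)
  have hαβ : Commute α β := (hcom α hαs.symm).2.symm
  have hαβq : α * α + β * β = (q : D) := by
    have hXs : Commute (X : D) (s * Y) :=
      (Int.cast_commute X s).mul_right (Int.cast_commute X _)
    have e1 : ((X : D) + s * Y) * ((X : D) + s * Y) + ((X : D) - s * Y) * ((X : D) - s * Y)
        = 4 * (q : D) := by
      have e2 : ((X : D) + s * Y) * ((X : D) + s * Y) + ((X : D) - s * Y) * ((X : D) - s * Y)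
          = 2 * ((X : D) * X) + 2 * ((s * Y) * (s * Y)) := by noncomm_ring
      have e3 : (s * (Y : D)) * (s * Y) = 5 * ((Y : D) * Y) := by
        rw [(Int.cast_commute Y s).mul_mul_mul_comm, hs]
      have e4 := congrArg (Int.cast : ℤ → D) hXY
      push_cast at e4
      rw [e2, e3, show (4 : D) = 2 * 2 by norm_num, mul_assoc, e4, sq, sq, mul_add]
    calc α * α + β * β
        = (((X : D) + s * Y) * ((X : D) + s * Y) + ((X : D) - s * Y) * ((X : D) - s * Y))
          * ((2 : D)⁻¹ * (2 : D)⁻¹) := by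
          rw [hα, hβ, (h2inv _).symm.mul_mul_mul_comm, (h2inv _).symm.mul_mul_mul_comm, ← add_mul]
      _ = (q : D) := by
          rw [e1, ← (Nat.cast_commute q (4 : D)).eq, mul_assoc,
            show (4 : D) = 2 * 2 by norm_num, ← mul_assoc (2 * 2 : D),
            mul_assoc (2 : D) 2, mul_inv_cancel₀ (two_ne_zero), mul_one,
            mul_inv_cancel₀ (two_ne_zero), mul_one]
  set θ : D := α * i + β * j with hθdef
  have hθ : θ * θ = -(q : D) := by
    calc θ * θ = α * i * (α * i) + β * j * (β * j) + (α * i * (β * j) + β * j * (α * i)) := by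
          rw [hθdef]; noncomm_ring
      _ = α * α * (i * i) + β * β * (j * j) + (α * β * (i * j) + β * α * (j * i)) := by
          rw [hαi.symm.mul_mul_mul_comm, hβj.symm.mul_mul_mul_comm,
            hβi.symm.mul_mul_mul_comm, hαj.symm.mul_mul_mul_comm]
      _ = -(α * α + β * β) := by rw [hi, hj, hji, ← hαβ.eq]; noncomm_ring
      _ = -(q : D) := by rw [hαβq]
  obtain ⟨t, ht⟩ : ∃ t : D, t = i * j := ⟨_, rfl⟩
  clear_value α β θ
  have hti : t * i = j := by
    rw [ht, mul_assoc, hji, mul_neg, ← mul_assoc, hi, neg_mul, one_mul, neg_neg]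
  have hit : i * t = -j := by rw [ht, ← mul_assoc, hi, neg_mul, one_mul]
  have htj : t * j = -i := by rw [ht, mul_assoc, hj, mul_neg, mul_one]
  have hjt : j * t = i := by
    rw [ht, ← mul_assoc, hji, neg_mul, mul_assoc, hj, mul_neg, mul_one, neg_neg]
  have htt : t * t = -1 := by
    nth_rewrite 2 [ht]
    rw [← mul_assoc, hti, hj]
  have hαt : Commute α t := ht ▸ hαi.mul_right hαj
  have hβt : Commute β t := ht ▸ hβi.mul_right hβj
  have htθ : t * θ = -(θ * t) := by
    rw [hθdef, mul_add, ← mul_assoc, ← mul_assoc, ← hαt.eq, ← hβt.eq, mul_assoc α, mul_assoc β,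
      hti, htj, add_mul, mul_assoc α, mul_assoc β, hit, hjt]
    noncomm_ring
  have hzt : Commute z t := ht ▸ hzi.mul_right hzj
  have hzθ : Commute z θ := hθdef ▸ (hαz.symm.mul_right hzi).add_right (hβz.symm.mul_right hzj)
  -- the norm equation at `z`
  set p := Polynomial.aeval z P with hp
  set c := Polynomial.aeval z Q with hc
  clear_value p c
  have hzq : z ^ (q + 1) = 1 := by
    obtain ⟨d, hd⟩ := hrq
    rw [hd, pow_mul, hzr, one_pow]
  have hN0 := congrArg (Polynomial.aeval z) hPQ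
  simp only [map_mul, map_sub, map_add, map_pow, map_one, Polynomial.aeval_X,
    Polynomial.aeval_C, map_natCast, ← hp, ← hc] at hN0
  have hz1' : z - 1 ≠ 0 := sub_ne_zero.mpr hz1
  set N := p ^ 2 + (q : D) * c ^ 2 with hN
  have hzN : z * N = -1 := by
    refine mul_left_cancel₀ hz1' ?_
    calc (z - 1) * (z * N) = z * ((z - 1) * N) := by noncomm_ring
      _ = z ^ (q + 1) - z := by rw [hN0, mul_sub, mul_one, pow_succ']
      _ = (z - 1) * -1 := by rw [hzq]; noncomm_ring
  set w := z ^ (r / 2) with hw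
  have hzw : z * (w * w) = 1 := by
    obtain ⟨d, hd⟩ := hr.odd_of_ne_two (fun h => by rw [h] at h10; norm_num at h10)
    rw [hw, show r / 2 = d by omega, ← pow_add, ← pow_succ', ← two_mul, ← hd, hzr]
  have hz0 : z ≠ 0 := fun h => by rw [h, zero_mul] at hzw; exact zero_ne_one hzw
  have hNw : N = -(w * w) := by
    refine mul_left_cancel₀ hz0 ?_
    rw [hzN, mul_neg, hzw]
  clear_value w
  have hpc : Commute p c := hp ▸ hc ▸ commute_aeval ((commute_aeval (Commute.refl z) P).symm) Q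
  have hθp : Commute θ p := hp ▸ commute_aeval hzθ.symm P
  have hθc : Commute θ c := hc ▸ commute_aeval hzθ.symm Q
  have htp : Commute t p := hp ▸ commute_aeval hzt.symm P
  have htc : Commute t c := hc ▸ commute_aeval hzt.symm Q
  set e := p + θ * c with he
  set e' := p - θ * c with he'
  have hee : e * e' = -(w * w) := by
    rw [← hNw, he, he', hN]
    have e1 : θ * c * p = p * (θ * c) := (hθp.symm.mul_right hpc).eq.symm
    calc (p + θ * c) * (p - θ * c)
        = p * p + (θ * c * p - p * (θ * c)) - θ * c * (θ * c) := by noncomm_ring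
      _ = p * p - θ * c * (θ * c) := by rw [e1, sub_self, add_zero]
      _ = p ^ 2 + (q : D) * c ^ 2 := by
          rw [hθc.symm.mul_mul_mul_comm, hθ, sq, sq]; noncomm_ring
  have hte : t * e = e' * t := by
    rw [he, he', mul_add, sub_mul, htp.eq, ← mul_assoc, htθ, neg_mul, mul_assoc θ t,
      htc.eq, ← mul_assoc]
    noncomm_ring
  have hsq : e * t * (e * t) = w * w := by
    calc e * t * (e * t) = e * (t * e) * t := by simp only [mul_assoc]
      _ = e * e' * (t * t) := by rw [hte]; simp only [mul_assoc]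
      _ = w * w := by rw [hee, htt, neg_mul_neg, mul_one]
  have hew : Commute (e * t) w := by
    rw [hw]
    refine (Commute.pow_right ?_ _)
    rw [he, hp, hc]
    exact (((commute_aeval (Commute.refl z) P).symm).add_left
      (hzθ.symm.mul_left (commute_aeval (Commute.refl z) Q).symm)).mul_left hzt.symm
  have hor : e * t = w ∨ e * t = -w := hew.mul_self_eq_mul_self_iff.mp hsq
  have he0 : e ≠ 0 := by
    intro h
    rw [h, zero_mul, eq_comm, neg_eq_zero] at hee
    rw [hee, mul_zero] at hzw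
    exact zero_ne_one hzw
  have hθe : Commute θ e := hθp.add_right ((Commute.refl θ).mul_right hθc)
  have hθw : Commute θ w := hw ▸ hzθ.symm.pow_right _
  have hθet : Commute θ (e * t) := by
    rcases hor with h | h <;> rw [h]
    · exact hθw
    · exact hθw.neg_right
  have hθt : θ * t = t * θ := by
    refine mul_left_cancel₀ he0 ?_
    rw [← mul_assoc, ← hθe.eq, mul_assoc, hθet.eq, mul_assoc]
  rw [htθ, eq_neg_iff_add_eq_zero, ← two_mul] at hθt
  rcases mul_eq_zero.mp hθt with h | h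
  · exact two_ne_zero h
  rcases mul_eq_zero.mp h with h | h
  · rw [h, mul_zero, eq_comm, neg_eq_zero, Nat.cast_eq_zero] at hθ
    exact hq.ne_zero hθ
  · rw [h, mul_zero, eq_comm, neg_eq_zero] at htt
    exact one_ne_zero htt

end Cfsg.Agent.SolvStruct.Amitsur
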