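import Mathlib

/-!
Finite facts about `SL(2,5)`, checked on coordinate tuples.
-/

set_option autoImplicit false
set_option synthInstance.maxHeartbeats 400000
set_option synthInstance.maxSize 400

namespace Cfsg.Agent.SolvStruct.Amitsur

/-- `SL(2,5)`. -/
abbrev SL25 := Matrix.SpecialLinearGroup (Fin 2) (ZMod 5)

abbrev T5 := ZMod 5 × ZMod 5 × ZMod 5 × ZMod 5

def tmul (x y : T5) : T5 :=
  (x.1 * y.1 + x.2.1 * y.2.2.1, x.1 * y.2.1 + x.2.1 * y.2.2.2,
    x.2.2.1 * y.1 + x.2.2.2 * y.2.2.1, x.2.2.1 * y.2.1 + x.2.2.2 * y.2.2.2)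

def toT (x : SL25) : T5 := (x.1 0 0, x.1 0 1, x.1 1 0, x.1 1 1)

theorem toT_mul (x y : SL25) : toT (x * y) = tmul (toT x) (toT y) := by
  simp [toT, tmul, Matrix.mul_apply, Fin.sum_univ_two]

theorem toT_injective : Function.Injective toT := by
  intro x y h
  simp only [toT, Prod.mk.injEq] at h
  obtain ⟨h1, h2, h3, h4⟩ := h
  apply Subtype.ext
  ext i j
  fin_cases i <;> fin_cases j <;> assumption

theorem toT_det (x : SL25) :
    (toT x).1 * (toT x).2.2.2 - (toT x).2.1 * (toT x).2.2.1 = 1 := by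
  have := x.2
  rwa [Matrix.det_fin_two] at this

def i5 : SL25 := ⟨!![2, 0; 0, 3], by decide⟩
def j5 : SL25 := ⟨!![0, 1; 4, 0], by decide⟩
def k5 : SL25 := ⟨!![0, 2; 2, 0], by decide⟩
def b5 : SL25 := ⟨!![0, 4; 1, 1], by decide⟩
def z5 : SL25 := ⟨!![4, 0; 0, 4], by decide⟩
def bp5 : SL25 := ⟨!![1, 3; 3, 0], by decide⟩

/-- The word in `a`, `b` that evaluates to `i5` at `(j5, b5)`. -/
def iWord {M : Type*} [Monoid M] (a b : M) : M := b * a * b * b * a * b * a * b * b * a * b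

theorem toT_one : toT 1 = (1, 0, 0, 1) := by decide
theorem toT_i5 : toT i5 = (2, 0, 0, 3) := by decide
theorem toT_j5 : toT j5 = (0, 1, 4, 0) := by decide
theorem toT_k5 : toT k5 = (0, 2, 2, 0) := by decide
theorem toT_b5 : toT b5 = (0, 4, 1, 1) := by decide
theorem toT_z5 : toT z5 = (4, 0, 0, 4) := by decide
theorem toT_bp5 : toT bp5 = (1, 3, 3, 0) := by decide

theorem z5_mul_self : z5 * z5 = 1 := by
  apply toT_injective; simp only [toT_mul, toT_z5, toT_one]; decide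
theorem z5_ne_one : z5 ≠ 1 := fun h => by
  have := congrArg toT h; rw [toT_z5, toT_one] at this; exact absurd this (by decide)
theorem i5_mul_self : i5 * i5 = z5 := by
  apply toT_injective; simp only [toT_mul, toT_i5, toT_z5]; decide
theorem j5_mul_self : j5 * j5 = z5 := by
  apply toT_injective; simp only [toT_mul, toT_j5, toT_z5]; decide
theorem i5_mul_j5 : i5 * j5 = k5 := by
  apply toT_injective; simp only [toT_mul, toT_i5, toT_j5, toT_k5]; decide
theorem j5_mul_i5 : j5 * i5 = z5 * k5 := by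
  apply toT_injective; simp only [toT_mul, toT_i5, toT_j5, toT_k5, toT_z5]; decide
theorem b5_cube : b5 * b5 * b5 = z5 := by
  apply toT_injective; simp only [toT_mul, toT_b5, toT_z5]; decide
theorem b5_ne_z5 : b5 ≠ z5 := fun h => by
  have := congrArg toT h; rw [toT_b5, toT_z5] at this; exact absurd this (by decide)
theorem iWord_j5_b5 : iWord j5 b5 = i5 := by
  apply toT_injective; simp only [iWord, toT_mul, toT_b5, toT_j5, toT_i5]; decide
theorem u5_pow_five :
    (j5 * b5) * (j5 * b5) * (j5 * b5) * (j5 * b5) * (j5 * b5) = 1 := by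
  apply toT_injective; simp only [toT_mul, toT_j5, toT_b5, toT_one]; decide
theorem u5_ne_one : j5 * b5 ≠ 1 := fun h => by
  have := congrArg toT h
  rw [toT_mul, toT_b5, toT_j5, toT_one] at this
  exact absurd this (by decide)
theorem k5_conj : k5 * (k5 * bp5) = (j5 * b5) * (j5 * b5) * k5 := by
  apply toT_injective; simp only [toT_mul, toT_j5, toT_b5, toT_k5, toT_bp5]; decide

def conjWitness : List T5 :=
  [(4, 2, 1, 2), (4, 4, 3, 2), (1, 4, 3, 3), (1, 2, 1, 3), (2, 4, 4, 1), (1, 4, 4, 2),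
   (1, 1, 1, 2), (2, 1, 1, 1), (1, 0, 0, 1), (1, 0, 1, 1), (1, 0, 2, 1), (1, 0, 3, 1),
   (1, 0, 4, 1), (1, 4, 0, 1), (1, 3, 0, 1), (1, 2, 0, 1), (1, 1, 0, 1), (0, 1, 4, 0),
   (4, 1, 4, 0), (3, 1, 4, 0), (3, 4, 1, 0), (4, 4, 1, 0), (0, 4, 1, 1), (0, 4, 1, 2),
   (0, 4, 1, 3), (0, 1, 4, 1), (4, 4, 2, 1), (4, 3, 1, 1), (4, 2, 4, 1), (4, 1, 3, 1)]

set_option maxRecDepth 4000 in
theorem conjWitness_det : ∀ g ∈ conjWitness, g.1 * g.2.2.2 - g.2.1 * g.2.2.1 = 1 := by decide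

set_option maxRecDepth 8000 in
theorem conjWitness_spec : ∀ a b c d : ZMod 5,
    tmul (a, b, c, d) (a, b, c, d) = (4, 0, 0, 4) → a * d - b * c = 1 →
      ∃ g ∈ conjWitness, tmul g (a, b, c, d) = tmul (2, 0, 0, 3) g := by decide

theorem exists_conj_i5 (x : SL25) (hx : x * x = z5) : ∃ g : SL25, g * x = i5 * g := by
  have h := congrArg toT hx
  rw [toT_mul, toT_z5] at h
  obtain ⟨g, hg, hg'⟩ := conjWitness_spec _ _ _ _ h (toT_det x)
  refine ⟨⟨!![g.1, g.2.1; g.2.2.1, g.2.2.2], ?_⟩, toT_injective ?_⟩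
  · rw [Matrix.det_fin_two]
    simpa using conjWitness_det g hg
  · refine (toT_mul _ _).trans (Eq.trans ?_ (toT_mul _ _).symm)
    rw [toT_i5]
    simpa [toT] using hg'

set_option maxRecDepth 8000 in
theorem anticomm_spec : ∀ a b c d : ZMod 5,
    tmul (a, b, c, d) (a, b, c, d) = (4, 0, 0, 4) →
    tmul (a, b, c, d) (2, 0, 0, 3) = tmul (4, 0, 0, 4) (tmul (2, 0, 0, 3) (a, b, c, d)) →
      (a, b, c, d) = (0, 1, 4, 0) ∨ (a, b, c, d) = (0, 4, 1, 0) ∨
      (a, b, c, d) = (0, 2, 2, 0) ∨ (a, b, c, d) = (0, 3, 3, 0) := by decide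

theorem eq_of_anticomm (x : SL25) (hx : x * x = z5) (h : x * i5 = z5 * (i5 * x)) :
    x = j5 ∨ x = z5 * j5 ∨ x = k5 ∨ x = z5 * k5 := by
  have h1 := congrArg toT hx
  have h2 := congrArg toT h
  simp only [toT_mul, toT_z5, toT_i5] at h1 h2
  rcases anticomm_spec _ _ _ _ h1 h2 with h | h | h | h
  · exact Or.inl (toT_injective (h.trans toT_j5.symm))
  · refine Or.inr (Or.inl (toT_injective (h.trans ?_)))
    simp only [toT_mul, toT_z5, toT_j5]; decide
  · exact Or.inr (Or.inr (Or.inl (toT_injective (h.trans toT_k5.symm))))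
  · refine Or.inr (Or.inr (Or.inr (toT_injective (h.trans ?_))))
    simp only [toT_mul, toT_z5, toT_k5]; decide

set_option maxRecDepth 8000 in
theorem comm_spec : ∀ a b c d : ZMod 5, a * d - b * c = 1 →
    tmul (a, b, c, d) (2, 0, 0, 3) = tmul (2, 0, 0, 3) (a, b, c, d) →
    tmul (a, b, c, d) (0, 1, 4, 0) = tmul (0, 1, 4, 0) (a, b, c, d) →
      (a, b, c, d) = (1, 0, 0, 1) ∨ (a, b, c, d) = (4, 0, 0, 4) := by decide

theorem eq_of_comm (x : SL25) (hi : x * i5 = i5 * x) (hj : x * j5 = j5 * x) :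
    x = 1 ∨ x = z5 := by
  have h1 := congrArg toT hi
  have h2 := congrArg toT hj
  simp only [toT_mul, toT_i5, toT_j5] at h1 h2
  rcases comm_spec _ _ _ _ (toT_det x) h1 h2 with h | h
  · exact Or.inl (toT_injective (h.trans toT_one.symm))
  · exact Or.inr (toT_injective (h.trans toT_z5.symm))

def tcube (x : T5) : T5 := tmul (tmul x x) x

set_option maxRecDepth 8000 in
theorem flip_spec : ∀ a b c d : ZMod 5, a * d - b * c = 1 →
    tcube (a, b, c, d) = (4, 0, 0, 4) →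
    (let y : T5 := (a, b, c, d)
     let p : T5 := (0, 2, 2, 0)
     tmul (tmul (tmul (tmul (tmul (tmul (tmul (tmul (tmul (tmul y p) y) y) p) y) p) y) y) p) y) =
      tmul (4, 0, 0, 4) (2, 0, 0, 3) →
    (let u : T5 := tmul (0, 2, 2, 0) (a, b, c, d)
     tmul (tmul (tmul (tmul u u) u) u) u) = (1, 0, 0, 1) →
    (a, b, c, d) = (1, 3, 3, 0) := by decide

theorem eq_bp5 (y : SL25) (h3 : y * y * y = z5) (hw : iWord k5 y = z5 * i5)
    (h5 : (k5 * y) * (k5 * y) * (k5 * y) * (k5 * y) * (k5 * y) = 1) : y = bp5 := by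
  have h1 := congrArg toT h3
  have h2 := congrArg toT hw
  have h3' := congrArg toT h5
  simp only [iWord, toT_mul, toT_i5, toT_z5, toT_k5, toT_one] at h1 h2 h3'
  exact toT_injective ((flip_spec _ _ _ _ (toT_det y) h1 h2 h3').trans toT_bp5.symm)

end Cfsg.Agent.SolvStruct.Amitsur
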