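import Mathlib
import Cfsg.Agent.SolvStruct.Amitsur.Facts

/-!
The quaternion elements and the square root of five carried by a copy of `SL(2,5)` in a division ring.
-/

set_option autoImplicit false

namespace Cfsg.Agent.SolvStruct.Amitsur

variable {D : Type*} [DivisionRing D]

theorem map_iWord {M N : Type*} [Monoid M] [Monoid N] (f : M →* N) (a b : M) :
    f (iWord a b) = iWord (f a) (f b) := by
  simp [iWord, map_mul]

theorem commute_iWord {M : Type*} [Monoid M] {c a b : M} (ha : Commute c a) (hb : Commute c b) :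
    Commute c (iWord a b) :=
  ((((((((((hb.mul_right ha).mul_right hb).mul_right hb).mul_right ha).mul_right hb).mul_right
    ha).mul_right hb).mul_right hb).mul_right ha).mul_right hb)

variable (ι : SL25 →* D)

theorem map_z5 (hι : Function.Injective ι) : ι z5 = -1 := by
  have h : ι z5 * ι z5 = 1 := by rw [← map_mul, z5_mul_self, map_one]
  rcases mul_self_eq_one_iff.mp h with h | h
  · exact absurd (hι (h.trans (map_one ι).symm)) z5_ne_one
  · exact h

/-- `a = ι j5`. -/
def qa : D := ι j5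
/-- `b = ι b5`. -/
def qb : D := ι b5
/-- `T = u + u⁻¹` for `u = a b`. -/
def qT : D := qa ι * qb ι + qb ι * qa ι - qa ι
/-- A square root of five. -/
def qs : D := 2 * qT ι + 1

variable (hι : Function.Injective ι)

include hι in
theorem qa_sq : qa ι * qa ι = -1 := by
  rw [qa, ← map_mul, j5_mul_self, map_z5 ι hι]

include hι in
theorem qb_sq : qb ι * qb ι = qb ι - 1 := by
  have h3 : qb ι * qb ι * qb ι = -1 := by
    rw [qb, ← map_mul, ← map_mul, b5_cube, map_z5 ι hι]
  have hne : qb ι + 1 ≠ 0 := by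
    intro h
    exact b5_ne_z5 (hι ((eq_neg_of_add_eq_zero_left h).trans (map_z5 ι hι).symm))
  have h : (qb ι + 1) * (qb ι * qb ι - qb ι + 1) = 0 := by
    calc (qb ι + 1) * (qb ι * qb ι - qb ι + 1) = qb ι * qb ι * qb ι + 1 := by noncomm_ring
      _ = 0 := by rw [h3]; simp
  have h' := (mul_eq_zero.mp h).resolve_left hne
  rw [sub_add, sub_eq_zero] at h'
  exact h'

include hι in
theorem qT_comm_qa : Commute (qT ι) (qa ι) := by
  have ha := qa_sq ι hι
  show qT ι * qa ι = qa ι * qT ι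
  calc qT ι * qa ι = qa ι * qb ι * qa ι + qb ι * (qa ι * qa ι) - qa ι * qa ι := by
        rw [qT]; noncomm_ring
    _ = (qa ι * qa ι) * qb ι + qa ι * qb ι * qa ι - qa ι * qa ι := by
        rw [ha]; noncomm_ring
    _ = qa ι * qT ι := by rw [qT]; noncomm_ring

include hι in
theorem qT_comm_qb : Commute (qT ι) (qb ι) := by
  have hb := qb_sq ι hι
  show qT ι * qb ι = qb ι * qT ι
  calc qT ι * qb ι = qa ι * (qb ι * qb ι) + qb ι * qa ι * qb ι - qa ι * qb ι := by
        rw [qT]; noncomm_ring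
    _ = qb ι * qa ι * qb ι + (qb ι * qb ι) * qa ι - qb ι * qa ι := by
        rw [hb]; noncomm_ring
    _ = qb ι * qT ι := by rw [qT]; noncomm_ring

theorem map_u5 : ι (j5 * b5) = qa ι * qb ι := map_mul ι _ _

include hι in
theorem qT_eq : qT ι = qa ι * qb ι + (qa ι * qb ι) ^ 4 := by
  have ha := qa_sq ι hι
  have hb := qb_sq ι hι
  set u := qa ι * qb ι with hu
  have h5 : u ^ 5 = 1 := by
    have h := congrArg ι u5_pow_five
    simp only [map_mul, map_one] at h
    simp only [qa, qb] at hu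
    rw [← h, hu]; noncomm_ring
  have h1 : u * (qb ι * qa ι - qa ι) = 1 := by
    calc u * (qb ι * qa ι - qa ι)
        = qa ι * (qb ι * qb ι) * qa ι - qa ι * qb ι * qa ι := by rw [hu]; noncomm_ring
      _ = -(qa ι * qa ι) := by rw [hb]; noncomm_ring
      _ = 1 := by rw [ha, neg_neg]
  have hu0 : u ≠ 0 := fun h => by simp [h] at h1
  have h2 : qb ι * qa ι - qa ι = u ^ 4 := by
    refine mul_left_cancel₀ hu0 ?_
    rw [h1, ← pow_succ', h5]
  rw [qT, ← hu, ← h2]; noncomm_ring

include hι in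
theorem u_relation :
    let u := qa ι * qb ι
    u ^ 5 = 1 ∧ 1 + u + u ^ 2 + u ^ 3 + u ^ 4 = 0 := by
  intro u
  have h5 : u ^ 5 = 1 := by
    have h := congrArg ι u5_pow_five
    simp only [map_mul, map_one] at h
    rw [← h]; simp only [u, qa, qb]; noncomm_ring
  refine ⟨h5, ?_⟩
  have hne : u - 1 ≠ 0 := by
    rw [sub_ne_zero]
    intro h
    exact u5_ne_one (hι (by rw [map_u5, map_one]; exact h))
  have h : (u - 1) * (1 + u + u ^ 2 + u ^ 3 + u ^ 4) = 0 := by
    calc (u - 1) * (1 + u + u ^ 2 + u ^ 3 + u ^ 4) = u ^ 5 - 1 := by noncomm_ring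
      _ = 0 := by rw [h5, sub_self]
  exact (mul_eq_zero.mp h).resolve_left hne

include hι in
theorem qs_sq : qs ι * qs ι = 5 := by
  obtain ⟨h5, h⟩ := u_relation ι hι
  set u := qa ι * qb ι with hu
  have hT : qT ι = u + u ^ 4 := qT_eq ι hι
  have h8 : u ^ 8 = u ^ 3 := by rw [show (8 : ℕ) = 5 + 3 from rfl, pow_add, h5, one_mul]
  calc qs ι * qs ι = 4 * u ^ 2 + 8 * u ^ 5 + 4 * u ^ 8 + 4 * u + 4 * u ^ 4 + 1 := by
        rw [qs, hT]; noncomm_ring
    _ = 4 * (1 + u + u ^ 2 + u ^ 3 + u ^ 4) + (4 + 1) := by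
        rw [h5, h8, show (8 : D) = 4 + 4 by norm_num]
        simp only [mul_add, add_mul, mul_one]
        abel
    _ = 5 := by rw [h]; norm_num

theorem qs_comm_of_forall {c : D} (h : ∀ x, Commute c (ι x)) : Commute c (qs ι) := by
  have hT : Commute c (qT ι) :=
    (((h j5).mul_right (h b5)).add_right ((h b5).mul_right (h j5))).sub_right (h j5)
  exact ((Commute.ofNat_right c 2).mul_right hT).add_right (Commute.one_right c)

include hι in
theorem qT_comm_i : Commute (qT ι) (ι i5) := by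
  rw [← iWord_j5_b5, map_iWord]
  exact commute_iWord (qT_comm_qa ι hι) (qT_comm_qb ι hι)

include hι in
theorem qT_comm_k : Commute (qT ι) (ι k5) := by
  rw [← i5_mul_j5, map_mul]
  exact (qT_comm_i ι hι).mul_right (qT_comm_qa ι hι)

include hι in
theorem qs_comm_i : Commute (qs ι) (ι i5) :=
  ((Commute.ofNat_left 2 _).mul_left (qT_comm_i ι hι)).add_left (Commute.one_left _)

include hι in
theorem qs_comm_j : Commute (qs ι) (ι j5) :=
  ((Commute.ofNat_left 2 _).mul_left (qT_comm_qa ι hι)).add_left (Commute.one_left _)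

include hι in
/-- An element normalizing the copy of `SL(2,5)` as `i ↦ -i`, `j ↦ k` flips the sign of `√5`. -/
theorem qs_flip {g : D} (hg : g ≠ 0) (hnorm : ∀ x, ∃ y, g * ι x = ι y * g)
    (hi : g * ι i5 = ι (z5 * i5) * g) (hj : g * ι j5 = ι k5 * g) :
    g * qs ι = -qs ι * g := by
  obtain ⟨y, hy⟩ := hnorm b5
  have hmul : ∀ {x x' y y' : SL25}, g * ι x = ι y * g → g * ι x' = ι y' * g →
      g * ι (x * x') = ι (y * y') * g := by
    intro x x' y y' h h'
    rw [map_mul, map_mul, ← mul_assoc, h, mul_assoc, h', ← mul_assoc]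
  have huniq : ∀ {x y y' : SL25}, g * ι x = ι y * g → g * ι x = ι y' * g → y = y' :=
    fun h h' => hι (mul_right_cancel₀ hg (h.symm.trans h'))
  have hz : g * ι z5 = ι z5 * g := by rw [map_z5 ι hι]; simp
  have h1 : g * ι 1 = ι 1 * g := by simp
  have hy3 : y * y * y = z5 := by
    refine huniq (hmul (hmul hy hy) hy) ?_
    rw [b5_cube]; exact hz
  have hyw : iWord k5 y = z5 * i5 := by
    refine huniq (x := iWord j5 b5) ?_ (by rw [iWord_j5_b5]; exact hi)
    exact hmul (hmul (hmul (hmul (hmul (hmul (hmul (hmul (hmul (hmul hy hj) hy) hy) hj) hy) hj)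
      hy) hy) hj) hy
  have hyu := hmul hj hy
  have hy5 : (k5 * y) * (k5 * y) * (k5 * y) * (k5 * y) * (k5 * y) = 1 := by
    refine huniq (hmul (hmul (hmul (hmul hyu hyu) hyu) hyu) hyu) ?_
    rw [u5_pow_five]; exact h1
  obtain rfl := eq_bp5 y hy3 hyw hy5
  obtain ⟨h5, hrel⟩ := u_relation ι hι
  set u := qa ι * qb ι with hu
  have hu' : ι (j5 * b5) = u := map_u5 ι
  set v := ι (k5 * bp5) with hv
  have hgu : g * u = v * g := by rw [← hu']; exact hyu
  have hgT : g * qT ι = (v + v ^ 4) * g := by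
    rw [qT_eq ι hι, ← hu, mul_add, add_mul, hgu,
      (show SemiconjBy g u v from hgu).pow_right 4]
  have hk0 : ι k5 ≠ 0 := ((Group.isUnit k5).map ι).ne_zero
  have hkv : ι k5 * v = u ^ 2 * ι k5 := by
    rw [hv, ← map_mul, k5_conj, map_mul, map_mul, hu', sq]
  have h2 : v + v ^ 4 = -1 - qT ι := by
    refine mul_left_cancel₀ hk0 ?_
    have h8 : u ^ 8 = u ^ 3 := by rw [show (8 : ℕ) = 5 + 3 from rfl, pow_add, h5, one_mul]
    calc ι k5 * (v + v ^ 4) = (u ^ 2 + (u ^ 2) ^ 4) * ι k5 := by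
          rw [mul_add, add_mul, hkv, (show SemiconjBy (ι k5) v (u ^ 2) from hkv).pow_right 4]
      _ = (-1 - qT ι) * ι k5 := by
          congr 1
          rw [← pow_mul, h8, qT_eq ι hι, ← hu, eq_sub_iff_add_eq]
          calc u ^ 2 + u ^ 3 + (u + u ^ 4) = (1 + u + u ^ 2 + u ^ 3 + u ^ 4) - 1 := by
                noncomm_ring
            _ = -1 := by rw [hrel, zero_sub]
      _ = ι k5 * (-1 - qT ι) :=
          (((Commute.one_left _).neg_left).sub_left (qT_comm_k ι hι)).eq
  rw [h2] at hgT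
  calc g * qs ι = 2 * (g * qT ι) + g := by rw [qs]; noncomm_ring
    _ = -qs ι * g := by rw [hgT, qs]; noncomm_ring

end Cfsg.Agent.SolvStruct.Amitsur
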