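import Mathlib
import Cfsg.Agent.SolvStruct.Amitsur.Quaternion

/-!
A copy of `SL(2,5)` in a division ring has no extension of index two in the multiplicative group.
-/

set_option autoImplicit false

namespace Cfsg.Agent.SolvStruct.Amitsur

variable {D : Type*} [DivisionRing D] [CharZero D] (ι : SL25 →* D)

/-- `g` normalizes the image of `ι`, has its square there, and is not itself there. -/
def IsOuter (g : D) : Prop :=
  g ≠ 0 ∧ (∀ x, ∃ y, g * ι x = ι y * g) ∧ (∃ y, g * g = ι y) ∧ ∀ y, g ≠ ι y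

variable {ι}

theorem IsOuter.mul_left {g : D} (h : IsOuter ι g) (a : SL25) : IsOuter ι (ι a * g) := by
  obtain ⟨h0, hn, ⟨y0, hy0⟩, hout⟩ := h
  refine ⟨mul_ne_zero ((Group.isUnit a).map ι).ne_zero h0, fun x => ?_, ?_, fun y hy => ?_⟩
  · obtain ⟨y, hy⟩ := hn x
    refine ⟨a * y * a⁻¹, ?_⟩
    rw [mul_assoc, hy, ← mul_assoc, ← mul_assoc, ← map_mul, ← map_mul, inv_mul_cancel_right]
  · obtain ⟨y, hy⟩ := hn a
    refine ⟨a * y * y0, ?_⟩
    rw [mul_assoc, ← mul_assoc g, hy, mul_assoc (ι y), hy0, ← mul_assoc, ← map_mul, ← map_mul]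
  · exact hout (a⁻¹ * y) (by rw [map_mul, ← hy, ← mul_assoc, ← map_mul, inv_mul_cancel, map_one, one_mul])

theorem rel_mul {g : D} {x x' y y' : SL25} (h : g * ι x = ι y * g) (h' : g * ι x' = ι y' * g) :
    g * ι (x * x') = ι (y * y') * g := by
  rw [map_mul, map_mul, ← mul_assoc, h, mul_assoc, h', ← mul_assoc]

theorem rel_unique {g : D} (hι : Function.Injective ι) (hg : g ≠ 0) {x y y' : SL25}
    (h : g * ι x = ι y * g) (h' : g * ι x = ι y' * g) : y = y' :=
  hι (mul_right_cancel₀ hg (h.symm.trans h'))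

theorem rel_left {g : D} {a x y y' : SL25} (h : g * ι x = ι y * g) (hy : a * y = y' * a) :
    ι a * g * ι x = ι y' * (ι a * g) := by
  rw [mul_assoc, h, ← mul_assoc, ← map_mul, hy, map_mul, mul_assoc]

theorem not_outer_centralizing (hι : Function.Injective ι) {g : D} (h : IsOuter ι g)
    (hi : g * ι i5 = ι i5 * g) (hj : g * ι j5 = ι j5 * g) : False := by
  obtain ⟨h0, -, ⟨y0, hy0⟩, hout⟩ := h
  have hc : ∀ x, g * ι x = ι x * g → y0 * x = x * y0 := by
    intro x hx
    apply hι
    rw [map_mul, map_mul, ← hy0, mul_assoc, hx, ← mul_assoc, hx, mul_assoc]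
  rcases eq_of_comm y0 (hc _ hi) (hc _ hj) with rfl | rfl
  · rw [map_one] at hy0
    rcases mul_self_eq_one_iff.mp hy0 with h | h
    · exact hout 1 (by rw [h, map_one])
    · exact hout z5 (by rw [h, map_z5 ι hι])
  · have h2 : g * ι i5 * (g * ι i5) = 1 := by
      rw [(show Commute (ι i5) g from hi.symm).mul_mul_mul_comm, hy0, ← map_mul, i5_mul_self,
        map_z5 ι hι]
      simp
    have key : ∀ e, g * ι i5 = ι e → False := fun e he => hout (e * i5⁻¹) (by
      rw [map_mul, ← he, mul_assoc, ← map_mul, mul_inv_cancel, map_one, mul_one])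
    rcases mul_self_eq_one_iff.mp h2 with h | h
    · exact key 1 (by rw [h, map_one])
    · exact key z5 (by rw [h, map_z5 ι hι])

theorem not_outer_flip (hι : Function.Injective ι) {g : D} (h : IsOuter ι g)
    (hi : g * ι i5 = ι (z5 * i5) * g) (hj : g * ι j5 = ι k5 * g) : False := by
  obtain ⟨h0, hn, ⟨y0, hy0⟩, hout⟩ := h
  have hzz : ι z5 = -1 := map_z5 ι hι
  have hk : g * ι k5 = ι j5 * g := by
    have h1 := rel_mul hi hj
    rw [i5_mul_j5] at h1
    rw [h1]
    congr 2
    apply toT_injective; simp only [toT_mul, toT_z5, toT_i5, toT_k5, toT_j5]; decide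
  have hc : ∀ x y, g * ι x = ι y * g → g * ι y = ι x * g → y0 * x = x * y0 := by
    intro x y hx hy
    apply hι
    rw [map_mul, map_mul, ← hy0, mul_assoc, hx, ← mul_assoc, hy, mul_assoc]
  have hi' : g * ι (z5 * i5) = ι i5 * g := by
    rw [map_mul, hzz, neg_one_mul, mul_neg, hi, map_mul, hzz]
    simp
  have hgg : g * g = -1 := by
    rcases eq_of_comm y0 (hc _ _ hi hi') (hc _ _ hj hk) with rfl | rfl
    · exfalso
      rw [map_one] at hy0
      rcases mul_self_eq_one_iff.mp hy0 with h | h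
      · exact hout 1 (by rw [h, map_one])
      · exact hout z5 (by rw [h, hzz])
    · rw [hy0, hzz]
  have hgs := qs_flip ι hι h0 hn hi hj
  have hs := qs_sq ι hι
  have hsi := qs_comm_i ι hι
  have hsj := qs_comm_j ι hι
  have hsk : Commute (qs ι) (ι k5) := by
    rw [← i5_mul_j5, map_mul]; exact hsi.mul_right hsj
  rw [map_mul, hzz, neg_one_mul, neg_mul] at hi
  have hI : ι i5 * ι i5 = -1 := by rw [← map_mul, i5_mul_self, hzz]
  have hJ : ι j5 * ι j5 = -1 := by rw [← map_mul, j5_mul_self, hzz]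
  have hIJ : ι i5 * ι j5 = ι k5 := by rw [← map_mul, i5_mul_j5]
  have hJI : ι j5 * ι i5 = -ι k5 := by rw [← map_mul, j5_mul_i5, map_mul, hzz, neg_one_mul]
  have hKI : ι k5 * ι i5 = ι j5 := by
    rw [← hIJ, mul_assoc, hJI, mul_neg, ← hIJ, ← mul_assoc, hI]; simp
  have hIK : ι i5 * ι k5 = -ι j5 := by rw [← hIJ, ← mul_assoc, hI]; simp
  have hKJ : ι k5 * ι j5 = -ι i5 := by rw [← hIJ, mul_assoc, hJ]; simp
  have hJK : ι j5 * ι k5 = ι i5 := by
    rw [← hIJ, ← mul_assoc, hJI, neg_mul, hKJ, neg_neg]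
  have hK : ι k5 * ι k5 = -1 := by
    nth_rewrite 2 [← hIJ]
    rw [← mul_assoc, hKI, hJ]
  set u : D := ι j5 + ι k5 with hu
  have hui : u * ι i5 = -(ι i5 * u) := by
    rw [hu, add_mul, mul_add, hJI, hKI, hIJ, hIK]; abel
  have huk : u * ι k5 = ι j5 * u := by
    rw [hu, add_mul, mul_add, hJK, hK, hJ]; abel
  have huu : u * u = -2 := by
    rw [hu, add_mul, mul_add, mul_add, hJ, hK, hJK, hKJ,
      show (-2 : D) = -1 + -1 by norm_num]
    abel
  have hgu : g * u = u * g := by
    rw [hu, mul_add, hj, hk, add_mul]; abel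
  have hsu : qs ι * u = u * qs ι := (hsj.add_right hsk).eq
  set c : D := u * g with hc'
  have hci : c * ι i5 = ι i5 * c := by
    rw [hc', mul_assoc, hi, mul_neg, ← mul_assoc, hui, neg_mul, neg_neg, mul_assoc]
  have hcs : c * qs ι = -(qs ι * c) := by
    rw [hc', mul_assoc, hgs, neg_mul, mul_neg, ← mul_assoc, ← hsu, mul_assoc]
  have hcc : c * c = 2 := by
    rw [hc', (show Commute g u from hgu).mul_mul_mul_comm, huu, hgg]; simp
  set y : D := (1 + qs ι) * c with hy
  have hyy : y * y = 2 * u * (2 * u) := by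
    calc y * y = (1 + qs ι) * (c * (1 + qs ι)) * c := by rw [hy]; simp only [mul_assoc]
      _ = (1 + qs ι) * ((1 - qs ι) * c) * c := by
          rw [mul_add c, mul_one, hcs, sub_mul, one_mul, sub_eq_add_neg]
      _ = (1 - qs ι * qs ι) * (c * c) := by noncomm_ring
      _ = 4 * (-2 : D) := by rw [hs, hcc]; norm_num
      _ = 2 * u * (2 * u) := by
          rw [(Commute.ofNat_right u 2).mul_mul_mul_comm, huu, show (4 : D) = 2 * 2 by norm_num]
  have hyu : Commute y (2 * u) := by
    refine Commute.mul_right (Commute.ofNat_right y 2) ?_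
    exact ((Commute.one_left u).add_left hsu).mul_left
      ((Commute.refl u).mul_left (show Commute g u from hgu))
  have hyi : Commute y (ι i5) := ((Commute.one_left _).add_left hsi).mul_left hci
  have h2u : Commute (2 * u) (ι i5) := by
    rcases hyu.mul_self_eq_mul_self_iff.mp hyy with h | h
    · exact h ▸ hyi
    · have := hyi.neg_left
      rwa [h, neg_neg] at this
  have h3 : 2 * (u * ι i5) = 2 * (ι i5 * u) := by
    rw [← mul_assoc, h2u.eq, ← mul_assoc, ← mul_assoc, (Commute.ofNat_left 2 (ι i5)).eq]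
  have h4 := mul_left_cancel₀ two_ne_zero h3
  rw [hui, neg_eq_iff_add_eq_zero, ← two_mul] at h4
  rcases mul_eq_zero.mp h4 with h | h
  · exact two_ne_zero h
  rcases mul_eq_zero.mp h with h | h
  · rw [h, mul_zero, eq_comm, neg_eq_zero] at hI; exact one_ne_zero hI
  · rw [h, mul_zero, eq_comm, neg_eq_zero] at huu; exact two_ne_zero huu

theorem not_outer (hι : Function.Injective ι) {g : D} (h : IsOuter ι g) : False := by
  obtain ⟨y, hy⟩ := h.2.1 i5
  have hz : g * ι z5 = ι z5 * g := by rw [map_z5 ι hι]; simp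
  have hy2 : y * y = z5 := by
    refine rel_unique hι h.1 (rel_mul hy hy) ?_
    rw [i5_mul_self]; exact hz
  obtain ⟨a, ha⟩ := exists_conj_i5 y hy2
  have h1 := h.mul_left a
  have h1i := rel_left hy ha
  set g₁ := ι a * g
  have hz1 : g₁ * ι z5 = ι z5 * g₁ := by rw [map_z5 ι hι]; simp
  obtain ⟨v, hv⟩ := h1.2.1 j5
  have hv2 : v * v = z5 := by
    refine rel_unique hι h1.1 (rel_mul hv hv) ?_
    rw [j5_mul_self]; exact hz1
  have hvi : v * i5 = z5 * (i5 * v) := by
    refine rel_unique hι h1.1 (rel_mul hv h1i) ?_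
    rw [j5_mul_i5, ← i5_mul_j5]
    exact rel_mul hz1 (rel_mul h1i hv)
  rcases eq_of_anticomm v hv2 hvi with rfl | rfl | rfl | rfl
  · exact not_outer_centralizing hι h1 h1i hv
  · refine not_outer_centralizing hι (h1.mul_left i5) (rel_left h1i rfl) (rel_left hv ?_)
    apply toT_injective; simp only [toT_mul, toT_z5, toT_i5, toT_j5]; decide
  · refine not_outer_flip hι (h1.mul_left k5) (rel_left h1i ?_) (rel_left hv rfl)
    apply toT_injective; simp only [toT_mul, toT_z5, toT_i5, toT_k5]; decide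
  · refine not_outer_flip hι (h1.mul_left j5) (rel_left h1i ?_) (rel_left hv ?_)
    · apply toT_injective; simp only [toT_mul, toT_z5, toT_i5, toT_j5]; decide
    · apply toT_injective; simp only [toT_mul, toT_z5, toT_k5, toT_j5]; decide

end Cfsg.Agent.SolvStruct.Amitsur
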