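import Mathlib
import Cfsg.Prelude.Def_Solvable
import Cfsg.Agent.Lib.Frobenius.Basic

/-!
Finite subgroups of the units of a division ring: commutative in positive characteristic, Frobenius
complements in characteristic zero.
-/

set_option autoImplicit false

namespace Cfsg.Agent.SolvStruct.Amitsur

variable {D : Type*} [DivisionRing D]

/-- In positive characteristic a finite group of units of a division ring is commutative. -/
theorem comm_of_charP (ℓ : ℕ) [Fact ℓ.Prime] [CharP D ℓ] (H : Subgroup Dˣ) [Finite H] (a b : H) :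
    a * b = b * a := by
  letI := ZMod.algebra D ℓ
  let S : Submonoid D := H.toSubmonoid.map (Units.coeHom D)
  have hSfin : (S : Set D).Finite := by
    show (Units.coeHom D '' (H : Set Dˣ)).Finite
    exact (Set.toFinite _).image _
  let A : Subalgebra (ZMod ℓ) D := Algebra.adjoin (ZMod ℓ) (S : Set D)
  have hA : Subalgebra.toSubmodule A = Submodule.span (ZMod ℓ) (S : Set D) := by
    rw [Algebra.adjoin_eq_span, Submonoid.closure_eq]
  haveI : Module.Finite (ZMod ℓ) (Subalgebra.toSubmodule A) := by
    rw [hA]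
    exact Module.Finite.span_of_finite _ hSfin
  haveI : Finite A := Module.finite_of_finite (ZMod ℓ) (M := Subalgebra.toSubmodule A)
  have hfield : IsField A := Finite.isDomain_to_isField A
  have hmem : ∀ c : H, ((c : Dˣ) : D) ∈ A := fun c =>
    Algebra.subset_adjoin ⟨(c : Dˣ), c.2, rfl⟩
  have h := congrArg Subtype.val (hfield.mul_comm ⟨_, hmem a⟩ ⟨_, hmem b⟩)
  apply Subtype.ext
  apply Units.ext
  exact h

/-- The action of `GL n K` on the multiplicative copy of `Fin n → K`. -/
def glAut (n : ℕ) (K : Type) [CommRing K] :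
    GL (Fin n) K →* MulAut (Multiplicative (Fin n → K)) where
  toFun g :=
    { toFun := fun v => Multiplicative.ofAdd ((g : Matrix (Fin n) (Fin n) K).mulVec v.toAdd)
      invFun := fun v =>
        Multiplicative.ofAdd (((g⁻¹ : GL (Fin n) K) : Matrix (Fin n) (Fin n) K).mulVec v.toAdd)
      left_inv := fun v => by
        apply Multiplicative.toAdd.injective
        simp [Matrix.mulVec_mulVec]
      right_inv := fun v => by
        apply Multiplicative.toAdd.injective
        simp [Matrix.mulVec_mulVec]
      map_mul' := fun v w => by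
        apply Multiplicative.toAdd.injective
        simp [Matrix.mulVec_add] }
  map_one' := by
    ext v : 1
    apply Multiplicative.toAdd.injective
    simp
  map_mul' g h := by
    ext v : 1
    apply Multiplicative.toAdd.injective
    simp [Matrix.mulVec_mulVec]

/-- A matrix group in which no nontrivial element fixes a nonzero vector is a Frobenius
complement. -/
theorem frobenius_complement_of_fpf {n : ℕ} (K : Type) [Field K] [Finite K] (hn : 0 < n)
    (B : Subgroup (GL (Fin n) K)) (hB : B ≠ ⊥)
    (hfix : ∀ g ∈ B, g ≠ 1 → ∀ v : Fin n → K,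
      (g : Matrix (Fin n) (Fin n) K).mulVec v = v → v = 0) :
    ∃ (L : Type) (_ : Group L) (_ : Finite L) (H : Subgroup L),
      Cfsg.IsFrobeniusComplement H ∧ Nonempty (B ≃* H) := by
  classical
  let φ : B →* MulAut (Multiplicative (Fin n → K)) := (glAut n K).comp B.subtype
  refine ⟨Multiplicative (Fin n → K) ⋊[φ] B, inferInstance,
    Finite.of_equiv _ SemidirectProduct.equivProd.symm, SemidirectProduct.inr.range, ?_,
    ⟨MonoidHom.ofInjective SemidirectProduct.inr_injective⟩⟩
  haveI : NeZero n := ⟨hn.ne'⟩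
  haveI : Finite (Multiplicative (Fin n → K) ⋊[φ] B) :=
    Finite.of_equiv _ SemidirectProduct.equivProd.symm
  haveI : (SemidirectProduct.inl.range : Subgroup (Multiplicative (Fin n → K) ⋊[φ] B)).Normal := by
    rw [SemidirectProduct.range_inl_eq_ker_rightHom]; infer_instance
  refine (Frobenius.Basic.isFrobeniusComplement_of_fixedPointFree SemidirectProduct.inl.range _
    ?_ ?_ ?_ ?_ ?_).1
  · rw [eq_bot_iff]
    rintro x ⟨⟨v, rfl⟩, ⟨b, hb⟩⟩
    have h1 := congrArg SemidirectProduct.right hb
    simp at h1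
    subst h1
    simpa using hb.symm
  · rw [eq_top_iff]
    intro x _
    rw [← x.inl_left_mul_inr_right]
    exact mul_mem (Subgroup.mem_sup_left ⟨_, rfl⟩) (Subgroup.mem_sup_right ⟨_, rfl⟩)
  · intro h
    obtain ⟨v, hv⟩ := exists_ne (0 : Fin n → K)
    apply hv
    have : SemidirectProduct.inl (φ := φ) (Multiplicative.ofAdd v) = 1 := by
      rw [← Subgroup.mem_bot, ← h]; exact ⟨_, rfl⟩
    have h1 := congrArg SemidirectProduct.left this
    simpa using h1
  · intro h
    apply hB
    rw [eq_bot_iff]
    intro b hb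
    have : SemidirectProduct.inr (φ := φ) ⟨b, hb⟩ = 1 := by
      rw [← Subgroup.mem_bot, ← h]; exact ⟨_, rfl⟩
    have h1 := congrArg SemidirectProduct.right this
    simpa [Subtype.ext_iff] using h1
  · rintro _ ⟨b, rfl⟩ hb _ ⟨v, rfl⟩ hc
    have hb1 : (b : GL (Fin n) K) ≠ 1 := fun h => hb (by
      have : b = 1 := Subtype.ext h
      rw [this, map_one])
    have h1 := congrArg SemidirectProduct.left hc
    simp at h1
    have h2 : ((b : GL (Fin n) K) : Matrix (Fin n) (Fin n) K).mulVec v.toAdd = v.toAdd :=
      congrArg Multiplicative.toAdd h1.symm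
    have h3 := hfix _ b.2 hb1 _ h2
    have : v = 1 := Multiplicative.toAdd.injective (by simpa using h3)
    rw [this, map_one]

/-- In characteristic zero a finite group of units of a division ring is a Frobenius complement. -/
theorem frobenius_complement_of_charZero [CharZero D] (H : Subgroup Dˣ) [Finite H]
    (hH : Nontrivial H) :
    ∃ (L : Type) (_ : Group L) (_ : Finite L) (C : Subgroup L),
      Cfsg.IsFrobeniusComplement C ∧ Nonempty (H ≃* C) := by
  classical
  let S : Submonoid D := H.toSubmonoid.map (Units.coeHom D)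
  have hSfin : (S : Set D).Finite := by
    show (Units.coeHom D '' (H : Set Dˣ)).Finite
    exact (Set.toFinite _).image _
  let R : Submodule ℤ D := Submodule.span ℤ (S : Set D)
  haveI : Module.Finite ℤ R := Module.Finite.span_of_finite _ hSfin
  haveI : IsAddTorsionFree D := by
    refine ⟨fun n hn a b hab => ?_⟩
    simpa [hn] using hab
  haveI : Module.Free ℤ R := Module.free_of_finite_type_torsion_free'
  have hmul : ∀ h : H, ∀ x ∈ R, ((h : Dˣ) : D) * x ∈ R := by
    intro h x hx
    induction hx using Submodule.span_induction with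
    | mem x hx =>
      obtain ⟨k, hk, rfl⟩ := hx
      exact Submodule.subset_span ⟨(h : Dˣ) * k, mul_mem h.2 hk, by simp⟩
    | zero => simp
    | add x y _ _ hx hy => rw [mul_add]; exact add_mem hx hy
    | smul a x _ hx => rw [mul_smul_comm]; exact Submodule.smul_mem _ _ hx
  let L : H →* (R →ₗ[ℤ] R) :=
    { toFun := fun h => (LinearMap.mulLeft ℤ ((h : Dˣ) : D)).restrict (hmul h)
      map_one' := by ext x; simp
      map_mul' := fun a b => LinearMap.ext fun x => Subtype.ext (mul_assoc _ _ (x : D)) }
  have h1R : (1 : D) ∈ R := Submodule.subset_span (S.one_mem)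
  let n := Module.finrank ℤ R
  have hn : 0 < n := by
    haveI : Nontrivial R := ⟨⟨⟨1, h1R⟩, 0, by simp [Subtype.ext_iff]⟩⟩
    exact Module.finrank_pos
  let bas : Module.Basis (Fin n) ℤ R := Module.finBasis ℤ R
  obtain ⟨ℓ, hℓ1, hℓ⟩ := Nat.exists_infinite_primes (Nat.card H + 1)
  haveI := Fact.mk hℓ
  let M : H →* Matrix (Fin n) (Fin n) (ZMod ℓ) :=
    ((Int.castRingHom (ZMod ℓ)).mapMatrix (m := Fin n)).toMonoidHom.comp
      (((LinearMap.toMatrixAlgEquiv bas : (R →ₗ[ℤ] R) ≃ₐ[ℤ] _) :
        (R →ₗ[ℤ] R) →* Matrix (Fin n) (Fin n) ℤ).comp L)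
  let f : H →* GL (Fin n) (ZMod ℓ) := M.toHomUnits
  have hfix : ∀ h : H, h ≠ 1 → ∀ v : Fin n → ZMod ℓ, (M h).mulVec v = v → v = 0 := by
    intro h hh v hv
    have hsum : ∑ i ∈ Finset.range (orderOf h), L (h ^ i) = 0 := by
      ext x
      have hg : (∑ i ∈ Finset.range (orderOf h), (((h : Dˣ) : D)) ^ i) *
          (((h : Dˣ) : D) - 1) = 0 := by
        rw [geom_sum_mul, sub_eq_zero, ← Units.val_pow_eq_pow_val,
          ← SubmonoidClass.coe_pow, pow_orderOf_eq_one]
        simp
      have hne : ((h : Dˣ) : D) - 1 ≠ 0 := by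
        rw [sub_ne_zero]
        intro h'
        exact hh (Subtype.ext (Units.ext h'))
      have h0 := (mul_eq_zero.mp hg).resolve_right hne
      simp [LinearMap.sum_apply, L, ← Finset.sum_mul, h0]
    have hsum' : ∑ i ∈ Finset.range (orderOf h), M h ^ i = 0 := by
      simp only [← map_pow]
      show ∑ i ∈ Finset.range (orderOf h),
        (Int.castRingHom (ZMod ℓ)).mapMatrix (LinearMap.toMatrixAlgEquiv bas (L (h ^ i))) = 0
      rw [← map_sum, ← map_sum, hsum, map_zero, map_zero]
    have hpow : ∀ i : ℕ, (M h ^ i).mulVec v = v := by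
      intro i
      induction i with
      | zero => simp
      | succ i ih => rw [pow_succ, ← Matrix.mulVec_mulVec, hv, ih]
    have h0 : (orderOf h : ZMod ℓ) • v = 0 := by
      have h1 := congrArg (fun A : Matrix (Fin n) (Fin n) (ZMod ℓ) => A.mulVec v) hsum'
      simp only [Matrix.sum_mulVec, Matrix.zero_mulVec, hpow] at h1
      simpa [Nat.cast_smul_eq_nsmul] using h1
    refine (smul_eq_zero.mp h0).resolve_left ?_
    rw [ZMod.natCast_eq_zero_iff]
    intro hd
    have h1 := Nat.le_of_dvd (orderOf_pos h) hd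
    have h2 : orderOf h ≤ Nat.card H := Nat.le_of_dvd Nat.card_pos (orderOf_dvd_natCard h)
    omega
  have hinj : Function.Injective f := by
    rw [injective_iff_map_eq_one]
    intro h hf
    by_contra hh
    haveI : NeZero n := ⟨hn.ne'⟩
    obtain ⟨v, hv⟩ := exists_ne (0 : Fin n → ZMod ℓ)
    refine hv (hfix h hh v ?_)
    have : M h = 1 := by simpa [f] using congrArg Units.val hf
    rw [this, Matrix.one_mulVec]
  obtain ⟨L', hG, hF, C, hC, ⟨e⟩⟩ := frobenius_complement_of_fpf (ZMod ℓ) hn f.range
    (by
      intro hb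
      obtain ⟨a, ha⟩ := exists_ne (1 : H)
      exact ha (hinj (by rw [map_one, ← Subgroup.mem_bot, ← hb]; exact ⟨a, rfl⟩)))
    (by
      rintro _ ⟨h, rfl⟩ hh v hv
      exact hfix h (fun h' => hh (by rw [h', map_one])) v hv)
  exact ⟨L', hG, hF, C, hC, ⟨(MonoidHom.ofInjective hinj).trans e⟩⟩

end Cfsg.Agent.SolvStruct.Amitsur
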